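import Groth.Agent.Lib.DvrPts6.Count
import Groth.Agent.Lib.Weight.Multiplicity
import Groth.Agent.Lib.RelDiv.Sum
import Groth.Agent.Lib.EtSite.FpqcDescent
import Mathlib.AlgebraicGeometry.Morphisms.FlatRank
import Mathlib.AlgebraicGeometry.Morphisms.Etale
import Mathlib.RingTheory.Etale.Field

/-!
# Étale separated morphisms with constant geometric point count are finite
-/

universe u

open CategoryTheory CategoryTheory.Limits AlgebraicGeometry Topology

noncomputable section

set_option linter.style.haveILetI false

namespace GrothLib.EtaleCount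

variable {X Y : Scheme.{u}}

/-- The geometric point over a point, in the separable closure of its residue field. -/
def geomPt (y : Y) : Spec (CommRingCat.of (SeparableClosure (Y.residueField y))) ⟶ Y :=
  Spec.map (CommRingCat.ofHom (algebraMap (Y.residueField y) (SeparableClosure (Y.residueField y)))) ≫
    Y.fromSpecResidueField y

theorem pt_geomPt (y : Y) : GeomRed6.pt (geomPt y) = y := Y.fromSpecResidueField_apply y _

/-- The geometric fibre counts the points over the geometric point. -/
theorem card_geomFiber (f : X ⟶ Y) [LocallyQuasiFinite f] [LocallyOfFiniteType f] {L : Type u} [Field L]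
    [IsSepClosed L] (t : Spec (CommRingCat.of L) ⟶ Y) :
    ENat.card ↥(MoreMor.geomFiber f (GeomRed6.pt t)) = ENat.card ↥(pullback f t) := by
  rw [← (GrothLib.Weight.nGeomIrredComp_eq f (GeomRed6.pt t)).2, DvrPts6.nGeom_eq_card f t]

/-- Over a separably closed field the rank of a finite étale scheme is its number of points. -/
theorem card_eq_finrank {L : Type u} [Field L] [IsSepClosed L] {P : Scheme.{u}} (q : P ⟶ Spec (CommRingCat.of L))
    [IsFinite q] [Etale q] (z : Spec (CommRingCat.of L)) : ENat.card ↥P = q.finrank z := by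
  haveI : IsAffine P := isAffine_of_isAffineHom q
  let e := P.isoSpec
  obtain ⟨φ, hφ⟩ := Spec.map_surjective (e.inv ≫ q)
  have hfin : φ.hom.Finite := by
    rw [← IsFinite.SpecMap_iff, hφ]; infer_instance
  have het : φ.hom.Etale := by
    have : Etale (Spec.map φ) := by rw [hφ]; infer_instance
    exact (HasRingHomProperty.Spec_iff (P := @Etale)).1 this
  letI : Algebra L Γ(P, ⊤) := φ.hom.toAlgebra
  haveI : Module.Finite L Γ(P, ⊤) := hfin
  haveI : Algebra.Etale L Γ(P, ⊤) := het
  have h1 : q.finrank z = Module.finrank L Γ(P, ⊤) := by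
    have h := Scheme.Hom.finrank_comp_left_of_isIso e.inv q
    rw [← h, ← hφ]
    show (Spec.map (CommRingCat.ofHom (algebraMap L Γ(P, ⊤)))).finrank z = _
    erw [Scheme.Hom.finrank_SpecMap_algebraMap]
    rw [Module.rankAtStalk_eq_finrank_of_free]
    rfl
  haveI : Finite (PrimeSpectrum Γ(P, ⊤)) :=
    haveI : IsArtinianRing Γ(P, ⊤) := isArtinian_of_tower L inferInstance
    inferInstance
  haveI := Fintype.ofFinite (PrimeSpectrum Γ(P, ⊤))
  rw [h1, (Algebra.FormallyEtale.equivPiOfIsSepClosed L Γ(P, ⊤)).toLinearEquiv.finrank_eq, Module.finrank_pi,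
    ENat.card_congr e.hom.homeomorph.toEquiv, ← Nat.card_eq_fintype_card]
  exact @ENat.card_eq_coe_natCard (PrimeSpectrum Γ(P, ⊤)) _

/-- For a finite étale morphism the count is the rank. -/
theorem card_geomFiber_eq_finrank (f : X ⟶ Y) [IsFinite f] [Etale f] (y : Y) :
    ENat.card ↥(MoreMor.geomFiber f y) = f.finrank y := by
  rw [← pt_geomPt y, card_geomFiber f]
  haveI : IsFinite (pullback.snd f (geomPt y)) := inferInstance
  haveI : Etale (pullback.snd f (geomPt y)) := inferInstance
  rw [card_eq_finrank (pullback.snd f (geomPt y)) (IsLocalRing.closedPoint _)]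
  erw [Scheme.Hom.finrank_pullback_snd]

/-- An étale separated quasi-compact morphism with constant geometric point count is finite. -/
theorem isFinite_of_card_eq (n : ℕ) : ∀ {X Y : Scheme.{u}} (f : X ⟶ Y) [Etale f] [IsSeparated f]
    [LocallyOfFiniteType f] [QuasiCompact f],
    (∀ y : Y, ENat.card ↥(MoreMor.geomFiber f y) = n) → IsFinite f := by
  induction n with
  | zero =>
    intro X Y f _ _ _ _ h
    haveI : IsEmpty X := by
      refine ⟨fun x => ?_⟩
      have h0 := h (f x)
      rw [Nat.cast_zero, ENat.card_eq_zero_iff_empty] at h0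
      obtain ⟨a, ha⟩ : ∃ a : f.fiber (f x), True := ⟨f.asFiber x, trivial⟩
      obtain ⟨b, -⟩ := (pullback.fst (f.fiberToSpecResidueField (f x))
        (Spec.map (CommRingCat.ofHom (algebraMap (Y.residueField (f x)) (SeparableClosure (Y.residueField (f x))))))).surjective a
      exact h0.false b
    haveI : IsClosedImmersion f := IsClosedImmersion.of_isPreimmersion f (by
      rw [Set.range_eq_empty]; exact isClosed_empty)
    infer_instance
  | succ n ih =>
    intro X Y f hEt hsep hlft hqc h
    haveI : LocallyQuasiFinite f := GrothLib.Weight.locallyQuasiFinite_of_formallyUnramified f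
    haveI : Surjective f := by
      refine ⟨fun y => ?_⟩
      have h0 := h y
      haveI : Nonempty ↥(MoreMor.geomFiber f y) := by
        by_contra hne
        rw [not_nonempty_iff] at hne
        rw [ENat.card_eq_zero_iff_empty _ |>.2 hne] at h0
        exact absurd h0.symm (by exact_mod_cast Nat.succ_ne_zero n)
      let a := Classical.arbitrary ↥(MoreMor.geomFiber f y)
      let b := pullback.fst (f.fiberToSpecResidueField y) _ a
      exact ⟨f.fiberι y b, by
        have hb : f.fiberι y b ∈ Set.range (f.fiberι y) := ⟨b, rfl⟩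
        rw [Scheme.Hom.range_fiberι] at hb
        exact hb⟩
    classical
    let q := pullback.fst f f
    let Δ := pullback.diagonal f
    haveI : Etale q := inferInstance
    haveI : IsSeparated q := inferInstance
    haveI : LocallyOfFiniteType q := inferInstance
    haveI : QuasiCompact q := inferInstance
    haveI : IsOpenImmersion Δ := inferInstance
    let U : (pullback f f).Opens :=
      ⟨(Set.range Δ)ᶜ, (IsClosedImmersion.base_closed (f := Δ)).isClosed_range.isOpen_compl⟩
    haveI : IsClosedImmersion U.ι := IsClosedImmersion.of_isPreimmersion U.ι (by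
      rw [Scheme.Opens.range_ι]
      exact Δ.isOpenEmbedding.isOpen_range.isClosed_compl)
    have hΔ : Δ ≫ q = 𝟙 X := pullback.diagonal_fst f
    haveI hfΔ : IsFinite (Δ ≫ q) := by rw [hΔ]; infer_instance
    haveI hfU : IsFinite (U.ι ≫ q) := by
      haveI : LocallyQuasiFinite (U.ι ≫ q) :=
        GrothLib.Weight.locallyQuasiFinite_of_formallyUnramified _
      refine ih (U.ι ≫ q) fun x => ?_
      haveI : LocallyQuasiFinite q := GrothLib.Weight.locallyQuasiFinite_of_formallyUnramified _
      let t := geomPt x
      have hq : ENat.card ↥(pullback q t) = (n : ℕ∞) + 1 := by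
        rw [← card_geomFiber q t, ← (GrothLib.Weight.nGeomIrredComp_eq q _).2,
          (Prod.mk.inj (GeomComp6.count_baseChange f q _ f (IsPullback.of_hasPullback f f).flip _)).2,
          (GrothLib.Weight.nGeomIrredComp_eq f _).2, h]
        exact Nat.cast_succ n
      let p := pullback.fst q t
      have hsub : ∀ {W : Scheme.{u}} (i : W ⟶ pullback f f) [IsPreimmersion i],
          ENat.card ↥(pullback (i ≫ q) t) = ENat.card ↥(p ⁻¹' Set.range i) := fun {W} i _ => by
        haveI : IsPreimmersion (pullback.snd i p) := inferInstance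
        rw [← ENat.card_congr (pullbackRightPullbackFstIso q t i).hom.homeomorph.toEquiv]
        refine ENat.card_congr ((Equiv.ofInjective _ (pullback.snd i p).isEmbedding.injective).trans ?_)
        exact Equiv.setCongr (Scheme.Pullback.range_snd i p)
      rw [← pt_geomPt x, card_geomFiber (U.ι ≫ q) t, hsub U.ι]
      have h1 : ENat.card ↥(p ⁻¹' Set.range Δ) = 1 := by
        rw [← hsub Δ]
        have : ∀ (r : X ⟶ X) (hr : r = 𝟙 X), ENat.card ↥(pullback r t) = 1 := by
          rintro r rfl
          rw [ENat.card_congr (asIso (pullback.snd (𝟙 X) t)).hom.homeomorph.toEquiv, ENat.card_eq_one_iff_unique, unique_iff_subsingleton_and_nonempty]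
          exact ⟨inferInstanceAs (Subsingleton (PrimeSpectrum (SeparableClosure (X.residueField x)))),
            inferInstanceAs (Nonempty (PrimeSpectrum (SeparableClosure (X.residueField x))))⟩
        exact this _ hΔ
      have h2 : ENat.card ↥(p ⁻¹' Set.range U.ι) + ENat.card ↥(p ⁻¹' Set.range Δ) = (n : ℕ∞) + 1 := by
        rw [← hq, Scheme.Opens.range_ι, ← ENat.card_sum]
        exact ENat.card_congr ((Equiv.sumComm _ _).trans (Equiv.Set.sumCompl (p ⁻¹' Set.range Δ)))
      rw [h1] at h2
      exact WithTop.add_right_cancel (by exact WithTop.one_ne_top) h2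
    haveI : IsFinite q := GrothLib.RelDiv.isFinite_of_cover q Δ U.ι (by
      rw [Scheme.Opens.range_ι]; exact Set.union_compl_self _)
    exact MorphismProperty.of_pullback_fst_of_descendsAlong (P := @IsFinite)
      (Q := GrothLib.EtSite.fpqcCov) (f := f) (g := f) ⟨⟨inferInstance, inferInstance⟩, inferInstance⟩ ‹_›

end GrothLib.EtaleCount
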